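import Mathlib
import Cfsg.Prelude.Def_GeometricClasses
import Cfsg.Agent.Lib.Helper27.ASC.Defs
import Cfsg.Agent.Lib.helper23.ASCO.Defs
import Cfsg.Agent.Lib.Helper19.ASG.Defs
import Cfsg.Agent.Lib.Helper25.ASO.Defs
import Cfsg.Agent.Lib.helper23.ASE.Defs
import Cfsg.Agent.Lib.Helper27.E10P.Defs
-- the pieces of project E10P
import Cfsg.Agent.Lib.Helper10.E10PTS4
import Cfsg.Agent.Lib.Helper10.E10PTSPAIR
import Cfsg.Agent.Lib.Helper13.E10PNDHALF
import Cfsg.Agent.Lib.Helper13.E10PFRSUBE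
import Cfsg.Agent.Lib.Helper9.E10PHALVES
import Cfsg.Agent.Lib.Helper9.E10PLINES
import Cfsg.Agent.Lib.Helper9.E10PPLANESPLUS
import Cfsg.Agent.Lib.Helper9.E10PUNITNP
import Cfsg.Agent.Lib.Lead.E10PP2Q2
import Cfsg.Agent.Lib.helper4.E10PP2Q3
import Cfsg.Agent.Lib.helper4.E10PP2Q4
import Cfsg.Agent.Lib.Helper22.E10PP2Q5
import Cfsg.Agent.Lib.Helper20.E10PFLDADJ
import Cfsg.Agent.Lib.Helper20.E10PFLD2SA
import Cfsg.Agent.Lib.Helper20.E10PFLD2U
import Cfsg.Agent.Lib.Helper27.E10PFLD5
import Cfsg.Agent.Lib.Helper29.E10PT2ALT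
import Cfsg.Agent.Lib.Helper29.E10PT2ISO
import Cfsg.Agent.Lib.Helper1.E10PT2ANISO
-- landed: project ASE (helper23) and friends
import Cfsg.Agent.Lib.helper23.ASEMain
import Cfsg.Agent.Lib.Helper16.ASE10.Dich
import Cfsg.Agent.Lib.Helper11.ASEPRC
import Cfsg.Agent.Lib.Helper11.ASEPRE
import Cfsg.Agent.Lib.Helper9.QD2T
import Cfsg.Agent.Lib.Helper26.ASGD1MAIN
import Cfsg.Agent.Lib.Helper19.ASCOCONV
import Cfsg.Statements.S5847

/-!
# Project E10P : assembly of S5847 from the piece statements of `Skel.lean.txt`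
-/

set_option autoImplicit false
set_option linter.unusedVariables false
set_option linter.unusedSectionVars false

namespace Cfsg.Agent.Lib.Helper27.E10P

open Cfsg Cfsg.Geo Cfsg.Agent.Lib.Helper27.ASC Cfsg.Agent.Lib.helper23.ASCO Cfsg.Agent.Lib.Helper19.ASG
  Cfsg.Agent.Lib.Helper25.ASO Cfsg.Agent.Lib.helper23.ASE Cfsg.Agent.Lib.Helper16.E10M
open scoped MatrixGroups Matrix Kronecker

variable {n : ℕ} {F : Type*} [Field F] [Fintype F]

/-- `t k = 10`, `2 ≤ t`, `0 < k` -/
theorem e10p_arith_dec {t k : ℕ} (h : t * k = 10) (ht : 2 ≤ t) :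
    (t = 10 ∧ k = 1) ∨ (t = 5 ∧ k = 2) ∨ (t = 2 ∧ k = 5) := by
  have hk0 : 0 < k := by
    rcases Nat.eq_zero_or_pos k with hk | hk
    · subst hk; omega
    · exact hk
  have ht10 : t ≤ 10 := by nlinarith
  have hk10 : k ≤ 10 := by nlinarith
  interval_cases t <;> interval_cases k <;> simp_all

/-- a prime power `< 7` is `2, 3, 4, 5` -/
theorem e10p_small_card (h : Fintype.card F < 7) :
    Fintype.card F = 2 ∨ Fintype.card F = 3 ∨ Fintype.card F = 4 ∨ Fintype.card F = 5 := by
  have hpp : IsPrimePow (Fintype.card F) := FiniteField.isPrimePow_card F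
  have h1 : 1 < Fintype.card F := Fintype.one_lt_card
  have h6 : Fintype.card F ≠ 6 := by
    intro h6
    rw [h6] at hpp
    exact absurd hpp (by decide)
  omega

theorem e10p_isometric_refl (Q : (Fin n → F) → F) (W : Submodule F (Fin n → F)) : AreIsometricFor Q W W :=
  ⟨LinearEquiv.refl F W, fun _ => rfl⟩

theorem e10p_isometric_symm (Q : (Fin n → F) → F) {W W' : Submodule F (Fin n → F)}
    (h : AreIsometricFor Q W W') : AreIsometricFor Q W' W := by
  obtain ⟨e, he⟩ := h
  refine ⟨e.symm, fun w => ?_⟩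
  have := he (e.symm w)
  rw [LinearEquiv.apply_symm_apply] at this
  exact this.symm

/-- `q` odd: `q % 4 = 1` iff `-1` is a square -/
theorem e10p_mod4 (hodd : Odd (Fintype.card F)) :
    (IsSquare (-1 : F) → Fintype.card F % 4 = 1) ∧ (¬ IsSquare (-1 : F) → Fintype.card F % 4 = 3) := by
  have h := FiniteField.isSquare_neg_one_iff (F := F)
  have h2 : Fintype.card F % 2 = 1 := Nat.odd_iff.mp hodd
  constructor
  · intro hs
    have := h.mp hs
    omega
  · intro hs
    by_contra h3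
    exact hs (h.mpr h3)

/-- S5847 over a bundled form -/
theorem e10p_fin (Q : QuadraticForm F (Fin 10 → F)) (hQ : (QuadraticMap.polarBilin Q).Nondegenerate)
    (hplus : IsPlusTypeOn (⇑Q) ⊤) (H : Subgroup (GL (Fin 10) F))
    (hH : IsMaximalIn (omegaGL (⇑Q)) H) : ConclE10P (⇑Q) H := by
  classical
  have hHΩ : H ≤ omegaGL (⇑Q) := hH.1.le
  have hHO : H ≤ isometryGroup F (⇑Q) := hHΩ.trans (omega_le_iso _)
  have hstab : ∀ W : Submodule F (Fin 10 → F), W ≠ ⊥ → W ≠ ⊤ → H ≤ subspaceStabilizer W →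
      H = subspaceStabilizer W ⊓ omegaGL (⇑Q) := fun W h0 h1 hle =>
    max_principle hH hle (omega_not_le_stab' (by norm_num) Q hQ W h0 h1)
  have hdecmax : ∀ {t k : ℕ} (D : Fin t → Submodule F (Fin 10 → F)), IsMDecomposition k D →
      (3 ≤ Fintype.card F ∨ 2 ≤ k) → H ≤ decompositionStabilizer D →
      H = decompositionStabilizer D ⊓ omegaGL (⇑Q) := by
    intro t k D hD hqk hle
    rcases hqk with hq | hk
    · exact max_principle hH hle (asepr_omega_not_le_dec (by norm_num) Q hQ D hD (Or.inl hq))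
    · exact max_principle hH hle (asepr_omega_not_le_dec_ge2 (by norm_num) Q hQ D hD hk)
  -- a totally singular subspace
  have hts : ∀ W : Submodule F (Fin 10 → F), W ≠ ⊥ → IsTotallySingularQuad (⇑Q) W →
      H ≤ subspaceStabilizer W → ConclE10P (⇑Q) H := by
    intro W h0 hW hle
    by_cases h4 : Module.finrank F W = 4
    · obtain ⟨M, hM, hMd, hMle⟩ := ts_submax_extend (m := 5) (by norm_num) (by norm_num) Q hQ hplus W hW
        (by rw [h4])
      have hM0 : M ≠ ⊥ := by
        intro h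
        rw [h, finrank_bot] at hMd
        omega
      exact Or.inl ⟨M, hM0, hM, by rw [hMd]; norm_num,
        hstab M hM0 (ase_ts_ne_top (by norm_num) Q hQ M hM) ((le_inf hle hHΩ).trans hMle)⟩
    · exact Or.inl ⟨W, h0, hW, h4, hstab W h0 (ase_ts_ne_top (by norm_num) Q hQ W hW) hle⟩
  -- a pair of complementary totally singular 5-spaces
  have hpair : ∀ D : Fin 2 → Submodule F (Fin 10 → F), IsMDecomposition 5 D →
      (∀ i, IsTotallySingularQuad (⇑Q) (D i)) → H ≤ decompositionStabilizer D → ConclE10P (⇑Q) H := by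
    intro D hD hDts hle
    have h0 : D 0 ≠ ⊥ := by
      intro h
      have := hD.finrank_eq 0
      rw [h, finrank_bot] at this
      omega
    exact hts (D 0) h0 (hDts 0)
      ((le_inf hle hHΩ).trans (ts_pair_fix (m := 5) (by norm_num) (by decide) Q hQ D hD hDts))
  -- a non-singular vector
  have hvec : ∀ v : Fin 10 → F, Q v ≠ 0 → H ≤ subspaceStabilizer (Submodule.span F {v}) → ConclE10P (⇑Q) H := by
    intro v hv hle
    obtain ⟨h0, h1, hfr⟩ := ase_span_facts (by norm_num) Q v hv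
    by_cases h2 : (2 : F) = 0
    · exact Or.inr (Or.inr (Or.inr (Or.inr (Or.inr (Or.inl ⟨ase_not_odd_of_two h2, v, hv, hstab _ h0 h1 hle⟩)))))
    · exact Or.inr (Or.inl ⟨asco_odd_card h2, _, h0, h1, by rw [hfr]; exact odd_one, by rw [hfr]; norm_num,
        ase_span_nd h2 Q v hv, hstab _ h0 h1 hle⟩)
  -- a non-degenerate plane
  have hplane : ∀ W : Submodule F (Fin 10 → F), Module.finrank F W = 2 →
      IsNondegenerateOn (QuadraticMap.polar (⇑Q)) W → H ≤ subspaceStabilizer W → ConclE10P (⇑Q) H := by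
    intro W hd hnd hle
    have h0 : W ≠ ⊥ := by
      intro h
      rw [h, finrank_bot] at hd
      omega
    have h1 : W ≠ ⊤ := by
      intro h
      rw [h, finrank_top, Module.finrank_fintype_fun_eq_card, Fintype.card_fin] at hd
      omega
    by_cases hp : IsPlusTypeOn (⇑Q) W
    · by_cases h4 : 4 ≤ Fintype.card F
      · exact Or.inr (Or.inr (Or.inr (Or.inl ⟨h4, W, hd, hnd, hp, hstab W h0 h1 hle⟩)))
      · obtain ⟨v, -, hv, hst⟩ := plus_plane_small Q hQ (by omega) W hnd hd hp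
        exact hvec v hv ((le_inf hle hHO).trans hst)
    · exact Or.inr (Or.inr (Or.inl ⟨W, hd, hnd, hp, hstab W h0 h1 hle⟩))
  -- the halves of a non-degenerate decomposition `5 + 5`
  have hhalves : ∀ D : Fin 2 → Submodule F (Fin 10 → F),
      IsNondegenerateMDecomposition (QuadraticMap.polar (⇑Q)) 5 D → H ≤ decompositionStabilizer D →
      ConclE10P (⇑Q) H := by
    intro D hD hle
    have hodd : Odd (Fintype.card F) :=
      odd_card_of_nd_odd Q (D 0) (hD.nondegenerate 0) (by rw [hD.decomp.finrank_eq 0]; decide)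
    have h2 : (2 : F) ≠ 0 := fun h2 => ase_not_odd_of_two h2 hodd
    have hiff := halves_iso_iff (m := 5) (by norm_num) (by decide) h2 Q hQ hplus D hD
    have hmax := hdecmax D hD.decomp (Or.inr (by norm_num)) hle
    by_cases hiso : AreIsometricFor (⇑Q) (D 0) (D 1)
    · have hD' : IsOrthogonalMDecomposition (⇑Q) 5 D := by
        refine ⟨hD, ?_⟩
        have key : ∀ i j : Fin 2, AreIsometricFor (⇑Q) (D i) (D j) := by
          intro i j
          fin_cases i <;> fin_cases j
          · exact e10p_isometric_refl _ _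
          · exact hiso
          · exact e10p_isometric_symm _ hiso
          · exact e10p_isometric_refl _ _
        exact key
      exact Or.inr (Or.inr (Or.inr (Or.inr (Or.inr (Or.inr (Or.inr (Or.inr (Or.inl
        ⟨(e10p_mod4 hodd).1 (hiff.mp hiso), D, hD', hmax⟩))))))))
    · exact Or.inr (Or.inr (Or.inr (Or.inr (Or.inr (Or.inr (Or.inr (Or.inr (Or.inr (Or.inl
        ⟨(e10p_mod4 hodd).2 (fun hs => hiso (hiff.mpr hs)), D, hD, hiso, hmax⟩)))))))))
  -- a subfield group
  have hsubf : ∀ (F₁ : Subfield F) (ℓ : ℕ) (B : GL (Fin 10) F) (ζ : F), ℓ.Prime →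
      Fintype.card F = Nat.card F₁ ^ ℓ → ζ ≠ 0 →
      IsQuadFormRationalStructure (fun v : Fin 10 → F => ζ * Q v) F₁ B → H ≤ subfieldSubgroup F₁ B →
      ConclE10P (⇑Q) H := by
    intro F₁ ℓ B ζ hℓ hcard hζ hrat hle
    exact Or.inr (Or.inr (Or.inr (Or.inr (Or.inr (Or.inr (Or.inr (Or.inr (Or.inr (Or.inr (Or.inr (Or.inl
      ⟨F₁, ℓ, B, ζ, hℓ, hcard, hζ, hrat, max_principle hH hle
        (omega_not_le_subfield' (by norm_num) Q hQ F₁ (asco_ne_top_of_card_pow hℓ hcard) B)⟩)))))))))))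
  -- an orthogonal frame of ten lines
  have hframe : ∀ D : Fin 10 → Submodule F (Fin 10 → F), IsOrthogonalMDecomposition (⇑Q) 1 D →
      H ≤ decompositionStabilizer D → ConclE10P (⇑Q) H := by
    intro D hD hle
    have hodd : Odd (Fintype.card F) :=
      odd_card_of_nd_odd Q (D 0) (hD.decomp.nondegenerate 0) (by rw [hD.decomp.decomp.finrank_eq 0]; exact odd_one)
    have hsq := lines_neg_one_sq (m := 5) (by norm_num) (by decide) Q hQ hplus D hD
    have h3 : 3 ≤ Fintype.card F := by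
      have h1 : 1 < Fintype.card F := Fintype.one_lt_card
      rcases hodd with ⟨j, hj⟩
      omega
    by_cases hp : (Fintype.card F).Prime
    · exact Or.inr (Or.inr (Or.inr (Or.inr (Or.inr (Or.inr (Or.inl
        ⟨⟨Fintype.card F, hp, rfl, (e10p_mod4 hodd).1 hsq⟩, D, hD,
          hdecmax D hD.decomp.decomp (Or.inl h3) hle⟩))))))
    · obtain ⟨F₁, ℓ, B, ζ, hℓ, hcard, hζ, hrat, hst⟩ := frame_subfield_even Q hQ hp D hD
      exact hsubf F₁ ℓ B ζ hℓ hcard hζ hrat ((le_inf hle hHO).trans hst)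
  -- an orthogonal decomposition
  have hdec : ∀ {t k : ℕ} (D : Fin t → Submodule F (Fin 10 → F)), IsOrthogonalMDecomposition (⇑Q) k D →
      H ≤ decompositionStabilizer D → ConclE10P (⇑Q) H := by
    intro t k D hD hle
    have hcard := Cfsg.Agent.Lib.Helper28.Ld.card_eq _ hD.decomp.decomp
    rcases e10p_arith_dec hcard hD.decomp.decomp.two_le with ⟨rfl, rfl⟩ | ⟨rfl, rfl⟩ | ⟨rfl, rfl⟩
    · exact hframe D hD hle
    · have hpl := planes_plus Q hQ hplus (by decide) D hD
      by_cases h7 : 7 ≤ Fintype.card F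
      · exact Or.inr (Or.inr (Or.inr (Or.inr (Or.inr (Or.inr (Or.inr (Or.inl
          ⟨h7, D, hD, hdecmax D hD.decomp.decomp (Or.inr (le_refl 2)) hle⟩)))))))
      · rcases e10p_small_card (F := F) (by omega) with hq | hq | hq | hq
        · obtain ⟨v, hv, hst⟩ := planes_q2 hq Q hQ (by decide) D hD hpl
          exact hvec v hv ((le_inf hle hHO).trans hst)
        · obtain ⟨D', hD', hniso, hst⟩ := planes_q3 hq Q hQ (by decide) D hD hpl
          exact hhalves D' hD' ((le_inf hle hHO).trans hst)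
        · obtain ⟨F₁, B, hc, hrat, hst⟩ := planes_q4 hq Q hQ D hD hpl
          refine hsubf F₁ 2 B 1 Nat.prime_two hc one_ne_zero ?_ ((le_inf hle hHO).trans hst)
          intro u hu
          simpa using hrat u hu
        · obtain ⟨D', hD', hst⟩ := planes_q5 hq Q hQ D hD hpl
          exact hframe D' hD' ((le_inf hle hHO).trans hst)
    · exact hhalves D hD.decomp hle
  by_cases hirr : Irr H
  swap
  · -- Stage A
    rcases ered_case Q hQ hHO hirr with ⟨W, h0, hW, hle⟩ | ⟨W, h0, h1, hnd, hle⟩ | ⟨h2, v, hv, hle⟩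
    · exact hts W h0 hW hle
    · -- non-degenerate subspaces, by dimension
      have hlt : Module.finrank F W < 10 := by
        have h := Submodule.finrank_lt h1
        rwa [Module.finrank_fintype_fun_eq_card, Fintype.card_fin] at h
      have hpos : 0 < Module.finrank F W := Module.finrank_pos_iff_exists_ne_zero.mpr (by
        obtain ⟨w, hw, hw0⟩ := (Submodule.ne_bot_iff W).mp h0
        exact ⟨⟨w, hw⟩, fun h => hw0 (congrArg Subtype.val h)⟩)
      rcases Nat.even_or_odd (Module.finrank F W) with hev | hodd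
      · obtain ⟨j, hj⟩ := hev
        have hj' : j = 1 ∨ j = 2 ∨ j = 3 ∨ j = 4 := by omega
        rcases hj' with rfl | rfl | rfl | rfl
        · exact hplane W (by omega) hnd hle
        · exact Or.inr (Or.inr (Or.inr (Or.inr (Or.inl ⟨W, by omega, hnd, hstab W h0 h1 hle⟩))))
        · obtain ⟨W', hdim, hnd', hst⟩ := end_perp Q hQ W hnd
          have hW'0 : W' ≠ ⊥ := by
            intro h
            rw [h, finrank_bot] at hdim
            omega
          have hW'1 : W' ≠ ⊤ := by
            intro h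
            rw [h, finrank_top, Module.finrank_fintype_fun_eq_card, Fintype.card_fin] at hdim
            omega
          exact Or.inr (Or.inr (Or.inr (Or.inr (Or.inl ⟨W', by omega, hnd',
            hstab W' hW'0 hW'1 ((le_inf hle hHO).trans hst)⟩))))
        · obtain ⟨W', hdim, hnd', hst⟩ := end_perp Q hQ W hnd
          exact hplane W' (by omega) hnd' ((le_inf hle hHO).trans hst)
      · by_cases h5 : Module.finrank F W = 5
        · obtain ⟨D, hD0, hD, hst⟩ := nd_half_dec (m := 5) (by norm_num) (by norm_num) Q hQ W hnd h5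
          exact hhalves D hD ((le_inf hle hHO).trans hst)
        · exact Or.inr (Or.inl ⟨odd_card_of_nd_odd Q W hnd hodd, W, h0, h1, hodd, by omega, hnd,
            hstab W h0 h1 hle⟩)
    · exact hvec v hv hle
  -- Stage B : `H` irreducible.  The geometric outcomes of the dichotomy for a pair `(G, M)` with `H ≤ G`... here `G = H`.
  -- fields of degree 2
  have hfld2 : ∀ K : Subalgebra F (Matrix (Fin 10) (Fin 10) F), IsFieldSubalgebra 2 K →
      IsAdjointClosedFor (QuadraticMap.polar (⇑Q)) K → H ≤ subalgebraNormalizer K → ConclE10P (⇑Q) H := by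
    intro K hK hadj hle
    by_cases hsa : IsSelfAdjointFor (QuadraticMap.polar (⇑Q)) K
    · by_cases h2 : (2 : F) = 0
      · exact (field2_selfadj_char2 (m := 5) (by norm_num) (by decide) h2 Q hQ hirr hHO K hK hsa hle).elim
      · exact Or.inr (Or.inr (Or.inr (Or.inr (Or.inr (Or.inr (Or.inr (Or.inr (Or.inr (Or.inr (Or.inl
          ⟨asco_odd_card h2, K, hK, hsa, max_principle hH hle
            (omega_not_le_field' (by norm_num) Q hQ (le_refl 2) K hK)⟩))))))))))
    · exact absurd hplus (unitary_not_plus (m := 5) (by norm_num) (by decide) Q hQ K hK hadj hsa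
        (field2_unitary_sim (by norm_num) Q hQ hirr hHO K hK hadj hsa hle))
  -- the outcomes of the dichotomy
  have hgeo : ∀ M : Subgroup (GL (Fin 10) F), NormalIn M H →
      ConclE10P (⇑Q) H ∨ M ≤ scalars (Fin 10) F ∨ AbsIrr M := by
    intro M hM
    rcases en_dichotomy (by norm_num) Q hQ hirr hHO hM with ⟨t, k, D, hD, hle⟩ | ⟨t, E, τ, hE, hτ, hτ2, hfp⟩ |
      ⟨r, K', hr, hdvd, hK', hK'le, hZ, hle⟩ | ⟨k, d, e, P, A, B, hk1, hkn, hnkd, hle, hA, hB, hsign, hAB⟩ | h | h
    · exact Or.inl (hdec D hD hle)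
    · left
      by_cases ht2 : t = 2
      · subst ht2
        have h01 : τ 0 = 1 := by
          have := hfp 0
          have h2 : ∀ j : Fin 2, j ≠ 0 → j = 1 := by decide
          exact h2 _ this
        have hτ0 : oadj (⇑Q) (E 0) = E 1 := by rw [hτ 0, h01]
        obtain ⟨k, hD, hDts, hle⟩ := epair_two (by norm_num) Q hQ hirr hHO hM E hE hτ0
        have hcard := Cfsg.Agent.Lib.Helper28.Ld.card_eq _ hD
        have hk5 : k = 5 := by omega
        subst hk5
        exact hpair _ hD hDts hle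
      · have ht : 2 < t := by
          have := hE.two_le
          omega
        obtain ⟨t', k', D', hD', hle⟩ := epair_many Q hQ hHO hM E hE τ hτ hτ2 hfp ht
        exact hdec D' hD' hle
    · left
      have hadj := primesub_adjoint_closed Q hQ hHO hM hZ K' hK' hK'le
      have hr' : r = 2 ∨ r = 5 := by
        have h10 : (10 : ℕ) = 2 * 5 := by norm_num
        rw [h10] at hdvd
        rcases (Nat.Prime.dvd_mul hr).mp hdvd with h | h
        · exact Or.inl ((Nat.prime_dvd_prime_iff_eq hr Nat.prime_two).mp h)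
        · exact Or.inr ((Nat.prime_dvd_prime_iff_eq hr (by norm_num)).mp h)
      rcases hr' with rfl | rfl
      · exact hfld2 K' hK' hadj hle
      · rcases field5_case Q hQ hirr hHO K' hK' hadj hle with ⟨D, hD, hDts, hle'⟩ | ⟨K₂, hK₂, hadj₂, hle'⟩
        · exact hpair D hD hDts hle'
        · exact hfld2 K₂ hK₂ hadj₂ hle'
    · left
      -- tensor `2 ⊗ 5` or `5 ⊗ 2`
      have key : ∀ (e : Fin 10 ≃ Fin 2 × Fin 5) (A : Matrix (Fin 2) (Fin 2) F) (B : Matrix (Fin 5) (Fin 5) F),
          IsUnit A.det → IsUnit B.det → ((Aᵀ = A ∧ Bᵀ = B) ∨ (Aᵀ = -A ∧ Bᵀ = -B)) →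
          KronGram (QuadraticMap.polar (⇑Q)) e P A B → H ≤ tensorProductSubgroup 2 5 e P → ConclE10P (⇑Q) H := by
        intro e A B hA hB hsign hAB hle
        obtain ⟨h2, hAs, hBs⟩ := tens2_odd_symm Q hQ hirr hHO (by decide) (by norm_num) e P hle A B hA hB hsign hAB
        by_cases hiso : ∃ u : Fin 2 → F, u ≠ 0 ∧ u ⬝ᵥ A *ᵥ u = 0
        · obtain ⟨D, hD, hDts, hle'⟩ := tens2_iso_pair h2 Q hQ hHO (by norm_num) e P hle A B hA hB hAs hBs hAB hiso
          exact hpair D hD hDts hle'
        · push Not at hiso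
          obtain ⟨K₂, hK₂, hadj₂, hle'⟩ := tens2_aniso_field h2 Q hQ hHO (by norm_num) e P hle A B hA hB hAs hBs hAB
            hiso
          exact hfld2 K₂ hK₂ hadj₂ hle'
      have hkd : (k = 2 ∧ d = 5) ∨ (k = 5 ∧ d = 2) := by
        clear hle hAB hsign hA hB A B key
        have hk10 : k ≤ 10 := by omega
        interval_cases k <;> omega
      rcases hkd with ⟨rfl, rfl⟩ | ⟨rfl, rfl⟩
      · exact key e A B hA hB hsign hAB hle
      · have hAB' := kronGram_swap _ e P A B hAB
        have hle' : H ≤ tensorProductSubgroup 2 5 (e.trans (Equiv.prodComm (Fin 5) (Fin 2))) P := by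
          rw [← tensor_swap]; exact hle
        have hsign' : (Bᵀ = B ∧ Aᵀ = A) ∨ (Bᵀ = -B ∧ Aᵀ = -A) := by
          rcases hsign with h | h
          · exact Or.inl ⟨h.2, h.1⟩
          · exact Or.inr ⟨h.2, h.1⟩
        exact key _ B A hB hA hsign' hAB' hle'
    · exact Or.inr (Or.inl h)
    · exact Or.inr (Or.inr h)
  by_cases hcon : ConclE10P (⇑Q) H
  · exact hcon
  have hD : AllNormalAbsIrr H := by
    intro N hN
    rcases hgeo N hN with h | h | h
    · exact absurd h hcon
    · exact Or.inl h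
    · exact Or.inr h
  obtain ⟨N, hNmin⟩ := exists_minNonscalar H (irr_not_scalar (by norm_num) hirr)
  have hNn : NormalIn N H := hNmin.1
  have hNO : N ≤ isometryGroup F (⇑Q) := hNn.1.trans hHO
  have hA : AbsIrr N := (hD N hNn).resolve_left hNmin.2.1
  have hcomm := commutator_normalIn hNn
  rcases hNmin.2.2 _ hcomm (Subgroup.commutator_le_self N) with hab | hperf
  · -- D1 : `10` is not a prime power
    exfalso
    have hnc := d1_nonab (by norm_num : 2 ≤ 10) hA
    obtain ⟨r, hr, hel⟩ := d1_elab hNmin hab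
    have hpow := d1_pow hNmin hnc hab hr hel
    obtain ⟨R, hR, hRH, hRN⟩ := d1_core hNmin.1 hA hab hr hel hpow
    have hord := d1_order (by norm_num : 0 < 10) hR.absIrr hR.comm
    obtain ⟨m, hm1, hnm, -⟩ := d1_arith (by norm_num : 2 ≤ 10) hR hord
    have hdvd : r ∣ 10 := by
      rw [hnm]
      exact dvd_pow_self r (by omega)
    have hr' : r = 2 ∨ r = 5 := by
      have h10 : (10 : ℕ) = 2 * 5 := by norm_num
      rw [h10] at hdvd
      rcases (Nat.Prime.dvd_mul hr).mp hdvd with h | h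
      · exact Or.inl ((Nat.prime_dvd_prime_iff_eq hr Nat.prime_two).mp h)
      · exact Or.inr ((Nat.prime_dvd_prime_iff_eq hr (by norm_num)).mp h)
    rcases hr' with rfl | rfl
    · have h5 : (5 : ℕ) ∣ 2 ^ m := by rw [← hnm]; norm_num
      have := (Nat.Prime.dvd_of_dvd_pow (by norm_num : (5 : ℕ).Prime) h5)
      omega
    · have h2 : (2 : ℕ) ∣ 5 ^ m := by rw [← hnm]; norm_num
      have := (Nat.Prime.dvd_of_dvd_pow Nat.prime_two h2)
      omega
  · -- D2 : `N` perfect
    have hfix : ∀ h ∈ H, ∀ v : Fin 10 → F, Q ((h : Matrix (Fin 10) (Fin 10) F) *ᵥ v) = Q v := by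
      intro h hh v
      exact (hHO hh) v v
    have hQ' : IsNondegenerateQuadraticForm (⇑Q) := isNondegenerateQuadraticForm_coe Q hQ
    rcases Cfsg.Agent.Lib.Helper9.QD2T.quad_perfect_rows (Or.inr (Or.inl rfl)) (⇑Q) hQ' hfix hirr hD hNmin hperf with
      ⟨hsimp, hnab⟩ | ⟨h8, -, -⟩
    swap
    · omega
    by_cases hsub : ∃ F₀ : Subfield F, F₀ ≠ ⊤ ∧ RealisableOver F₀ (matrixSet N)
    · obtain ⟨F₀, h0, hR⟩ := hsub
      obtain ⟨F₁, ℓ, B, ζ, hℓ, hcard, hζ, hrat, hle⟩ := equad_rational (by norm_num) Q hQ hNn hA hHO F₀ h0 hR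
      exact hsubf F₁ ℓ B ζ hℓ hcard hζ hrat hle
    · -- residual
      refine Or.inr (Or.inr (Or.inr (Or.inr (Or.inr (Or.inr (Or.inr (Or.inr (Or.inr (Or.inr (Or.inr (Or.inr
        ⟨N, ⟨hNn.1, hNn.2, hperf, hsimp, hnab, centralizer_scalar_of hNn hperf hA, hA, ?_⟩, ?_⟩)))))))))))
      · intro F₀ h0 hR
        exact hsub ⟨F₀, h0, hR⟩
      · rintro ⟨σ, f, hf, hfix'⟩
        exact hsub (equad_unitary_realisable Q hQ hA hNO σ f hf hfix')

/-- S5847 -/
theorem s5847 : type_of% @Cfsg.CfsgFrozen.S5847 := by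
  intro F _ _ Q hQ hplus H hH
  have := e10p_fin (Cfsg.Agent.Lib.Helper28.OBundle.bundle Q hQ)
    (Cfsg.Agent.Lib.Helper28.OBundle.bundle_nondeg Q hQ) hplus H hH
  exact this

end Cfsg.Agent.Lib.Helper27.E10P
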